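import Groth.Agent.BddFin.K845.PtsGlue
import Mathlib.AlgebraicGeometry.Cover.Open

/-!
# A monomorphism through which points lift locally is an isomorphism
-/

set_option autoImplicit false
universe u

open CategoryTheory CategoryTheory.Limits AlgebraicGeometry

namespace K443.IsoLocal

open K845.PtsGlue

/-- Local lifts glue. -/
theorem exists_lift {P Q : Scheme.{u}} (h : P ⟶ Q) [Mono h] (R : CommRingCat.{u}) (s : Spec R ⟶ Q)
    (H : ∀ p : PrimeSpectrum R, ∃ g : R, g ∉ p.asIdeal ∧ ∃ t : Spec (CommRingCat.of (Localization.Away g)) ⟶ P,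
      t ≫ h = Spec.map (CommRingCat.ofHom (algebraMap R (Localization.Away g))) ≫ s) :
    ∃ t : Spec R ⟶ P, t ≫ h = s := by
  choose g hg t ht using H
  have hs : Ideal.span (Set.range g) = ⊤ := by
    by_contra hne
    obtain ⟨m, hm, hle⟩ := Ideal.exists_le_maximal _ hne
    exact hg ⟨m, hm.isPrime⟩ (hle (Ideal.subset_span ⟨_, rfl⟩))
  let 𝒰 : (Spec R).OpenCover := (Scheme.affineOpenCoverOfSpanRangeEqTop g hs).openCover
  let t' : ∀ i : 𝒰.I₀, 𝒰.X i ⟶ P := t
  have ht' : ∀ i : 𝒰.I₀, t' i ≫ h = 𝒰.f i ≫ s := ht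
  have hcov : ∀ i j : 𝒰.I₀, pullback.fst (𝒰.f i) (𝒰.f j) ≫ t' i = pullback.snd (𝒰.f i) (𝒰.f j) ≫ t' j := by
    intro i j
    rw [← cancel_mono h, Category.assoc, Category.assoc, ht', ht', pullback.condition_assoc]
  refine ⟨𝒰.glueMorphisms t' hcov, ?_⟩
  refine Scheme.Cover.hom_ext 𝒰 _ _ fun i => ?_
  rw [Scheme.Cover.ι_glueMorphisms_assoc, ht']

/-- A monomorphism through which all affine points lift locally is an isomorphism. -/
theorem isIso_of_local_lift {P Q : Scheme.{u}} (h : P ⟶ Q) [Mono h]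
    (H : ∀ (R : CommRingCat.{u}) (s : Spec R ⟶ Q) (p : PrimeSpectrum R), ∃ g : R, g ∉ p.asIdeal ∧
      ∃ t : Spec (CommRingCat.of (Localization.Away g)) ⟶ P,
        t ≫ h = Spec.map (CommRingCat.ofHom (algebraMap R (Localization.Away g))) ≫ s) : IsIso h := by
  choose t ht using fun (R : CommRingCat.{u}) (s : Spec R ⟶ Q) => exists_lift h R s (H R s)
  obtain ⟨r, hr⟩ := exists_hom_ring t (by
    intro R S φ s
    rw [← cancel_mono h, ht, Category.assoc, ht])
  have hrh : r ≫ h = 𝟙 Q := by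
    refine hom_ext_affine _ _ fun R s => ?_
    rw [← Category.assoc, ← hr, ht, Category.comp_id]
  refine ⟨r, ?_, hrh⟩
  rw [← cancel_mono h, Category.assoc, hrh, Category.comp_id, Category.id_comp]

end K443.IsoLocal
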