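import Groth.Agent.Sga7.H132.ProjPts

/-!
# Points of projective space with values in a ring and their homogeneous coordinates
-/

set_option autoImplicit false
universe u

open CategoryTheory AlgebraicGeometry MvPolynomial HomogeneousLocalization

namespace K443.PnPt

open Groth.Agent.Sga5.ProjChart Groth.Agent.Sga7.H132.ProjPts

variable (n : ℕ) (K : Type u) [CommRing K]

theorem ringHom_ext_chart {L : Type u} [CommRing L] (i : Fin (n + 1)) {χ χ' : Chart n K i →+* L}
    (h1 : ∀ c : K, χ (chartC n K i c) = χ' (chartC n K i c))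
    (h2 : ∀ l, χ (coord n K i l) = χ' (coord n K i l)) : χ = χ' := by
  have h3 : χ.comp (chartEquiv n K i).toRingHom = χ'.comp (chartEquiv n K i).toRingHom := by
    apply MvPolynomial.ringHom_ext
    · intro c
      change χ (chartEquiv n K i (C c)) = χ' (chartEquiv n K i (C c))
      rw [chartEquiv_C]
      exact h1 c
    · intro l
      change χ (chartEquiv n K i (X l)) = χ' (chartEquiv n K i (X l))
      rw [chartEquiv_X]
      exact h2 _
  ext x
  obtain ⟨y, rfl⟩ := (chartEquiv n K i).surjective x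
  exact RingHom.congr_fun h3 y

/-- The ring map on the chart `D_+(X_i)` attached to a vector with `v i = 1`. -/
noncomputable def chi {R : Type u} [CommRing R] [Algebra K R] (i : Fin (n + 1)) (v : Fin (n + 1) → R) :
    Chart n K i →+* R :=
  (eval₂Hom (algebraMap K R) (fun j => v (i.succAbove j))).comp (chartEquiv n K i).symm.toRingHom

theorem chi_chartC {R : Type u} [CommRing R] [Algebra K R] (i : Fin (n + 1)) (v : Fin (n + 1) → R)
    (c : K) : chi n K i v (chartC n K i c) = algebraMap K R c := by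
  have : (chartEquiv n K i).symm (chartC n K i c) = C c := by
    rw [RingEquiv.symm_apply_eq, chartEquiv_C]
  change (eval₂Hom (algebraMap K R) (fun j => v (i.succAbove j))) ((chartEquiv n K i).symm _) = _
  rw [this]
  simp

theorem chi_coord {R : Type u} [CommRing R] [Algebra K R] (i : Fin (n + 1)) (v : Fin (n + 1) → R)
    (hv : v i = 1) (l : Fin (n + 1)) : chi n K i v (coord n K i l) = v l := by
  obtain rfl | ⟨m, rfl⟩ := Fin.eq_self_or_eq_succAbove i l
  · rw [coord_self, map_one, hv]
  · have : (chartEquiv n K i).symm (coord n K i (i.succAbove m)) = X m := by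
      rw [RingEquiv.symm_apply_eq, chartEquiv_X]
    change (eval₂Hom (algebraMap K R) (fun j => v (i.succAbove j))) ((chartEquiv n K i).symm _) = _
    rw [this]
    simp

/-- Transition between the charts. -/
theorem exists_transition' {L : Type u} [CommRing L] (i j : Fin (n + 1)) (χ : Chart n K i →+* L)
    (h : IsUnit (χ (coord n K i j))) :
    ∃ χ' : Chart n K j →+* L, Spec.map (CommRingCat.ofHom χ') ≫ chart n K j =
      Spec.map (CommRingCat.ofHom χ) ≫ chart n K i ∧
      ∀ l, χ' (coord n K j l) * χ (coord n K i j) = χ (coord n K i l) := by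
  let 𝒜 := CohB1.polyGrading n K
  let W := HomogeneousLocalization.Away 𝒜 (X i * X j)
  let mi : Chart n K i →+* W := awayMap 𝒜 (X_mem n K j) rfl
  let mj : Chart n K j →+* W := awayMap 𝒜 (X_mem n K i) (mul_comm (X i) (X j))
  have hi : Spec.map (CommRingCat.ofHom mi) ≫ chart n K i =
      Proj.awayι 𝒜 (X i * X j) (SetLike.mul_mem_graded (X_mem n K i) (X_mem n K j)) (by omega) :=
    Proj.SpecMap_awayMap_awayι 𝒜 (X_mem n K i) one_pos (X_mem n K j) rfl
  have hj : Spec.map (CommRingCat.ofHom mj) ≫ chart n K j =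
      Proj.awayι 𝒜 (X i * X j) (SetLike.mul_mem_graded (X_mem n K i) (X_mem n K j)) (by omega) :=
    Proj.SpecMap_awayMap_awayι 𝒜 (X_mem n K j) one_pos (X_mem n K i) (mul_comm (X i) (X j))
  let : Algebra (Chart n K i) W := mi.toAlgebra
  have hloc : IsLocalization.Away (Away.isLocalizationElem (X_mem n K i) (X_mem n K j)) W :=
    Away.isLocalization_mul (X_mem n K i) (X_mem n K j) rfl one_ne_zero
  have helem : Away.isLocalizationElem (X_mem n K i) (X_mem n K j) = coord n K i j := by
    apply HomogeneousLocalization.val_injective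
    rw [coord, Away.val_mk, Away.val_mk, pow_one]
  rw [helem] at hloc
  let ω : W →+* L := IsLocalization.Away.lift (coord n K i j) (g := χ) h
  have hω : ω.comp mi = χ := IsLocalization.Away.lift_comp (coord n K i j) h
  refine ⟨ω.comp mj, ?_, ?_⟩
  · rw [CommRingCat.ofHom_comp, Spec.map_comp, Category.assoc, hj, ← hi, ← Category.assoc, ← Spec.map_comp,
      ← CommRingCat.ofHom_comp, hω]
  · intro l
    have h1 : mj (coord n K j l) * mi (coord n K i j) = mi (coord n K i l) := by
      apply HomogeneousLocalization.val_injective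
      rw [HomogeneousLocalization.val_mul]
      change (awayMap 𝒜 (X_mem n K i) (mul_comm (X i) (X j)) (Away.mk _ _ _ _ _)).val *
        (awayMap 𝒜 (X_mem n K j) rfl (Away.mk _ _ _ _ _)).val = (awayMap 𝒜 (X_mem n K j) rfl (Away.mk _ _ _ _ _)).val
      rw [awayMap_mk, awayMap_mk, awayMap_mk, Away.val_mk, Away.val_mk, Away.val_mk, Localization.mk_mul,
        Localization.mk_eq_mk_iff, Localization.r_iff_exists]
      refine ⟨1, ?_⟩
      simp
      ring
    rw [← hω]
    change ω (mj (coord n K j l)) * ω (mi (coord n K i j)) = ω (mi (coord n K i l))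
    rw [← map_mul, h1]

/-- Two chart points which agree have proportional coordinates. -/
theorem overlap {L : Type u} [CommRing L] (i j : Fin (n + 1)) (χ : Chart n K i →+* L)
    (χ' : Chart n K j →+* L) (h : Spec.map (CommRingCat.ofHom χ') ≫ chart n K j =
      Spec.map (CommRingCat.ofHom χ) ≫ chart n K i) :
    IsUnit (χ (coord n K i j)) ∧ (∀ l, χ' (coord n K j l) * χ (coord n K i j) = χ (coord n K i l)) ∧
      ∀ c, χ' (chartC n K j c) = χ (chartC n K i c) := by
  have h3 : ∀ c, χ' (chartC n K j c) = χ (chartC n K i c) := by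
    have h4 := congr($h ≫ CohB1.ProjSpace.toSpec n K)
    rw [Category.assoc, Category.assoc, chart_toSpec, chart_toSpec, ← Spec.map_comp,
      ← Spec.map_comp, Spec.map_inj] at h4
    intro c
    exact congr($(h4).hom c)
  -- `χ (coord i j)` is a unit
  have hu : IsUnit (χ (coord n K i j)) := by
    let 𝒜 := CohB1.polyGrading n K
    let W := HomogeneousLocalization.Away 𝒜 (X i * X j)
    let mi : Chart n K i →+* W := awayMap 𝒜 (X_mem n K j) rfl
    let mj : Chart n K j →+* W := awayMap 𝒜 (X_mem n K i) (mul_comm (X i) (X j))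
    let P := Limits.pullback (chart n K i) (chart n K j)
    let e : P ≅ Spec (CommRingCat.of W) :=
      Proj.pullbackAwayιIso 𝒜 (X_mem n K i) one_pos (X_mem n K j) one_pos rfl
    have e1 : e.hom ≫ Spec.map (CommRingCat.ofHom mi) = Limits.pullback.fst _ _ :=
      Proj.pullbackAwayιIso_hom_SpecMap_awayMap_left 𝒜 (X_mem n K i) one_pos (X_mem n K j) one_pos rfl
    have e2 : e.hom ≫ Spec.map (CommRingCat.ofHom mj) = Limits.pullback.snd _ _ :=
      Proj.pullbackAwayιIso_hom_SpecMap_awayMap_right 𝒜 (X_mem n K i) one_pos (X_mem n K j) one_pos rfl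
    let l : Spec (CommRingCat.of L) ⟶ P := Limits.pullback.lift (Spec.map (CommRingCat.ofHom χ))
      (Spec.map (CommRingCat.ofHom χ')) h.symm
    obtain ⟨ω, hω⟩ := Spec.map_surjective (l ≫ e.hom)
    have h5 : ω.hom.comp mi = χ := by
      have : Spec.map (CommRingCat.ofHom mi ≫ ω) = Spec.map (CommRingCat.ofHom χ) := by
        rw [Spec.map_comp, hω, Category.assoc, e1, Limits.pullback.lift_fst]
      exact congr($(Spec.map_injective this).hom)
    have h6 : ω.hom.comp mj = χ' := by
      have : Spec.map (CommRingCat.ofHom mj ≫ ω) = Spec.map (CommRingCat.ofHom χ') := by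
        rw [Spec.map_comp, hω, Category.assoc, e2, Limits.pullback.lift_snd]
      exact congr($(Spec.map_injective this).hom)
    have h7 : mj (coord n K j i) * mi (coord n K i j) = 1 := by
      apply HomogeneousLocalization.val_injective
      rw [HomogeneousLocalization.val_mul, HomogeneousLocalization.val_one]
      change (awayMap 𝒜 (X_mem n K i) (mul_comm (X i) (X j)) (Away.mk _ _ _ _ _)).val *
        (awayMap 𝒜 (X_mem n K j) rfl (Away.mk _ _ _ _ _)).val = _
      rw [awayMap_mk, awayMap_mk, Away.val_mk, Away.val_mk, Localization.mk_mul,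
        ← Localization.mk_one, Localization.mk_eq_mk_iff, Localization.r_iff_exists]
      refine ⟨1, ?_⟩
      simp
      ring
    have h8 := congrArg ω.hom h7
    rw [map_mul, map_one] at h8
    have h9 : χ (coord n K i j) = ω.hom (mi (coord n K i j)) := by rw [← h5]; rfl
    rw [h9]
    exact IsUnit.of_mul_eq_one_right _ h8
  obtain ⟨χ'', h1, h2⟩ := exists_transition' n K i j χ hu
  have h4 : χ'' = χ' := by
    rw [← h, cancel_mono, Spec.map_inj] at h1
    exact congr($(h1).hom)
  rw [h4] at h2
  exact ⟨hu, h2, h3⟩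

/-- Chart points with proportional coordinates agree. -/
theorem chart_eq_of_smul {L : Type u} [CommRing L] (i j : Fin (n + 1)) (χ : Chart n K i →+* L)
    (χ' : Chart n K j →+* L) (h1 : ∀ c, χ' (chartC n K j c) = χ (chartC n K i c)) (c : L)
    (h2 : ∀ l, χ' (coord n K j l) = c * χ (coord n K i l)) :
    Spec.map (CommRingCat.ofHom χ) ≫ chart n K i = Spec.map (CommRingCat.ofHom χ') ≫ chart n K j := by
  have h3 : c * χ (coord n K i j) = 1 := by rw [← h2, coord_self, map_one]
  have hu : IsUnit (χ (coord n K i j)) := IsUnit.of_mul_eq_one_right _ h3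
  obtain ⟨χ'', h4, h5⟩ := exists_transition' n K i j χ hu
  rw [← h4]
  have h6 : χ'' = χ' := by
    refine ringHom_ext_chart n K j ?_ ?_
    · intro r
      rw [h1]
      have h7 := congr($h4 ≫ CohB1.ProjSpace.toSpec n K)
      rw [Category.assoc, Category.assoc, chart_toSpec, chart_toSpec, ← Spec.map_comp,
        ← Spec.map_comp, Spec.map_inj] at h7
      exact congr($(h7).hom r)
    · intro l
      have h8 := h5 l
      have h9 : χ'' (coord n K j l) = c * (χ'' (coord n K j l) * χ (coord n K i j)) := by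
        rw [mul_left_comm, h3, mul_one]
      rw [h9, h8, h2]
  rw [h6]

section VecPt

variable {R : Type u} [CommRing R] [Algebra K R]

/-- The point of projective space with homogeneous coordinates `v`. -/
noncomputable def vecPt (v : Fin (n + 1) → R) (i : Fin (n + 1)) (hi : IsUnit (v i)) :
    Spec (CommRingCat.of R) ⟶ CohB1.ProjSpace n K :=
  Spec.map (CommRingCat.ofHom (chi n K i (((hi.unit⁻¹ : Rˣ) : R) • v))) ≫ chart n K i

theorem vecPt_toSpec (v : Fin (n + 1) → R) (i : Fin (n + 1)) (hi : IsUnit (v i)) :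
    vecPt n K v i hi ≫ CohB1.ProjSpace.toSpec n K = Spec.map (CommRingCat.ofHom (algebraMap K R)) := by
  rw [vecPt, Category.assoc, chart_toSpec, ← Spec.map_comp, ← CommRingCat.ofHom_comp]
  congr 2
  ext c
  exact chi_chartC n K i _ c

theorem smul_self_eq_one (v : Fin (n + 1) → R) (i : Fin (n + 1)) (hi : IsUnit (v i)) :
    (((hi.unit⁻¹ : Rˣ) : R) • v) i = 1 := by
  rw [Pi.smul_apply, smul_eq_mul]
  exact hi.val_inv_mul

theorem vecPt_eq (v w : Fin (n + 1) → R) (i j : Fin (n + 1)) (hi : IsUnit (v i)) (hj : IsUnit (w j)) (c : R)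
    (h : w = c • v) : vecPt n K v i hi = vecPt n K w j hj := by
  rw [vecPt, vecPt]
  refine chart_eq_of_smul n K i j _ _ ?_ (((hj.unit⁻¹ : Rˣ) : R) * c * (v i)) ?_
  · intro r
    rw [chi_chartC, chi_chartC]
  · intro l
    rw [chi_coord n K j _ (smul_self_eq_one n w j hj), chi_coord n K i _ (smul_self_eq_one n v i hi), Pi.smul_apply, Pi.smul_apply,
      smul_eq_mul, smul_eq_mul]
    have h1 : v i * ((hi.unit⁻¹ : Rˣ) : R) = 1 := hi.mul_val_inv
    have h2 : w l = c * v l := by rw [h, Pi.smul_apply, smul_eq_mul]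
    calc ((hj.unit⁻¹ : Rˣ) : R) * w l = ((hj.unit⁻¹ : Rˣ) : R) * w l * (v i * ((hi.unit⁻¹ : Rˣ) : R)) := by rw [h1, mul_one]
      _ = ((hj.unit⁻¹ : Rˣ) : R) * c * (v i) * (((hi.unit⁻¹ : Rˣ) : R) * v l) := by rw [h2]; ring

theorem spec_vecPt {S : Type u} [CommRing S] [Algebra K S] (ψ : R →+* S) (hψ : ∀ c : K, ψ (algebraMap K R c) = algebraMap K S c)
    (v : Fin (n + 1) → R) (i : Fin (n + 1)) (hi : IsUnit (v i)) (hi' : IsUnit ((ψ ∘ v) i)) :
    Spec.map (CommRingCat.ofHom ψ) ≫ vecPt n K v i hi = vecPt n K (ψ ∘ v) i hi' := by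
  rw [vecPt, vecPt, ← Category.assoc, ← Spec.map_comp, ← CommRingCat.ofHom_comp]
  congr 3
  refine ringHom_ext_chart n K i ?_ ?_
  · intro c
    rw [RingHom.comp_apply, chi_chartC, chi_chartC, hψ]
  · intro l
    rw [RingHom.comp_apply, chi_coord n K i _ (smul_self_eq_one n v i hi), chi_coord n K i _ (smul_self_eq_one n _ i hi')]
    rw [Pi.smul_apply, Pi.smul_apply, smul_eq_mul, smul_eq_mul, map_mul]
    congr 1
    have h1 : ψ ((hi.unit⁻¹ : Rˣ) : R) = ((Units.map (ψ : R →* S) hi.unit)⁻¹ : Sˣ) := by
      rw [← map_inv]; rfl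
    rw [h1]
    congr 2
    ext
    rfl

end VecPt

end K443.PnPt
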