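import Mathlib.Algebra.Azumaya.Basic
import Mathlib.Algebra.Module.FinitePresentation
import Mathlib.LinearAlgebra.TensorProduct.Opposite
import Mathlib.LinearAlgebra.TensorProduct.Tower
import Mathlib.RingTheory.Finiteness.Descent
import Mathlib.RingTheory.Flat.FaithfullyFlat.Algebra
import Mathlib.RingTheory.Flat.EquationalCriterion

/-!
# Base change and descent of the sandwich map `A ⊗ Aᵒᵖ → End A`
-/

set_option autoImplicit false
universe u v w w'
open scoped TensorProduct
open MulOpposite

namespace K443.AzDesc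

section hom

variable (R : Type u) [CommRing R] (S : Type v) [CommRing S] [Algebra R S]
  (M : Type w) [AddCommGroup M] [Module R M] (N : Type w') [AddCommGroup N] [Module R N]

/-- For a finite projective module `M`, `S ⊗ Hom(M, N) = Hom(S ⊗ M, S ⊗ N)`. -/
theorem isBaseChange_hom [Module.Finite R M] [Module.Projective R M] :
    IsBaseChange S (LinearMap.baseChangeHom R S M N) := by
  obtain ⟨n, p, hp⟩ := Module.Finite.exists_fin' R M
  obtain ⟨s, hs⟩ := Module.projective_lifting_property p LinearMap.id hp
  have hF : IsBaseChange S (LinearMap.baseChangeHom R S (Fin n → R) N) :=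
    Module.isBaseChange_map_of_finite_free N S (Fin n)
  let θM : S ⊗[R] (M →ₗ[R] N) →ₗ[S] (S ⊗[R] M →ₗ[S] S ⊗[R] N) :=
    (LinearMap.baseChangeHom R S M N).liftBaseChange S
  let θF : S ⊗[R] ((Fin n → R) →ₗ[R] N) →ₗ[S] (S ⊗[R] (Fin n → R) →ₗ[S] S ⊗[R] N) :=
    (LinearMap.baseChangeHom R S (Fin n → R) N).liftBaseChange S
  have hθF : Function.Bijective θF := by
    exact hF
  have hMt : ∀ (t : S) (f : M →ₗ[R] N), θM (t ⊗ₜ f) = t • f.baseChange S := fun t f => by
    simp [θM]
  have hFt : ∀ (t : S) (f : (Fin n → R) →ₗ[R] N), θF (t ⊗ₜ f) = t • f.baseChange S := fun t f => by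
    simp [θF]
  let a : (M →ₗ[R] N) →ₗ[R] ((Fin n → R) →ₗ[R] N) := LinearMap.lcomp R N p
  let b : ((Fin n → R) →ₗ[R] N) →ₗ[R] (M →ₗ[R] N) := LinearMap.lcomp R N s
  have hps : p.baseChange S ∘ₗ s.baseChange S = LinearMap.id := by
    rw [← LinearMap.baseChange_comp, hs, LinearMap.baseChange_id]
  have hba : b ∘ₗ a = LinearMap.id := by
    ext f x
    have := LinearMap.congr_fun hs x
    simp only [LinearMap.comp_apply, LinearMap.id_apply] at this
    simp [a, b, this]
  have h1 : ∀ x, (θM x) ∘ₗ p.baseChange S = θF (a.baseChange S x) := by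
    intro x
    induction x using TensorProduct.induction_on with
    | zero => simp
    | tmul t f =>
      rw [LinearMap.baseChange_tmul, hMt, hFt]
      ext y
      simp [a]
    | add x y hx hy => rw [map_add, map_add, map_add, LinearMap.add_comp, hx, hy]
  have h2 : ∀ x, (θF x) ∘ₗ s.baseChange S = θM (b.baseChange S x) := by
    intro x
    induction x using TensorProduct.induction_on with
    | zero => simp
    | tmul t f =>
      rw [LinearMap.baseChange_tmul, hMt, hFt]
      ext y
      simp [b]
    | add x y hx hy => rw [map_add, map_add, map_add, LinearMap.add_comp, hx, hy]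
  have hba' : ∀ x, b.baseChange S (a.baseChange S x) = x := by
    intro x
    have := LinearMap.congr_fun (LinearMap.baseChange_comp (A := S) (g := b) a) x
    rw [hba, LinearMap.baseChange_id] at this
    exact this.symm
  have hinj : Function.Injective θM := by
    intro x y hxy
    have : a.baseChange S x = a.baseChange S y := by
      apply hθF.1
      rw [← h1, ← h1, hxy]
    rw [← hba' x, ← hba' y, this]
  have hsurj : Function.Surjective θM := by
    intro g
    obtain ⟨x, hx⟩ := hθF.2 (g ∘ₗ p.baseChange S)
    refine ⟨b.baseChange S x, ?_⟩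
    rw [← h2, hx, LinearMap.comp_assoc, hps, LinearMap.comp_id]
  exact ⟨hinj, hsurj⟩

end hom

section az

variable (R : Type u) [CommRing R] (S : Type v) [CommRing S] [Algebra R S]
  (B : Type w) [Ring B] [Algebra R B]

/-- `S ⊗ Bᵒᵖ = (S ⊗ B)ᵒᵖ`. -/
noncomputable def opEquiv : S ⊗[R] Bᵐᵒᵖ ≃ₗ[S] (S ⊗[R] B)ᵐᵒᵖ :=
  (TensorProduct.AlgebraTensorModule.congr (LinearEquiv.refl S S)
    (opLinearEquiv R (M := B)).symm) ≪≫ₗ (opLinearEquiv S)

@[simp] theorem opEquiv_tmul (s : S) (b : Bᵐᵒᵖ) :
    opEquiv R S B (s ⊗ₜ b) = op (s ⊗ₜ b.unop) := rfl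

/-- `S ⊗ (B ⊗ Bᵒᵖ) = (S ⊗ B) ⊗_S (S ⊗ B)ᵒᵖ`. -/
noncomputable def envEquiv : S ⊗[R] (B ⊗[R] Bᵐᵒᵖ) ≃ₗ[S] (S ⊗[R] B) ⊗[S] (S ⊗[R] B)ᵐᵒᵖ :=
  (TensorProduct.AlgebraTensorModule.distribBaseChange R S B Bᵐᵒᵖ) ≪≫ₗ
    TensorProduct.congr (LinearEquiv.refl S _) (opEquiv R S B)

@[simp] theorem envEquiv_tmul (s : S) (b : B) (c : Bᵐᵒᵖ) :
    envEquiv R S B (s ⊗ₜ (b ⊗ₜ c)) = (s ⊗ₜ b) ⊗ₜ op ((1 : S) ⊗ₜ c.unop) := by
  simp [envEquiv]

theorem mulLeftRight_envEquiv (x : S ⊗[R] (B ⊗[R] Bᵐᵒᵖ)) :
    AlgHom.mulLeftRight S (S ⊗[R] B) (envEquiv R S B x) =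
      (LinearMap.baseChangeHom R S B B).liftBaseChange S
        ((AlgHom.mulLeftRight R B).toLinearMap.baseChange S x) := by
  induction x using TensorProduct.induction_on with
  | zero => simp
  | add x y hx hy => simp only [map_add, hx, hy]
  | tmul s x =>
    induction x using TensorProduct.induction_on with
    | zero => simp
    | add x y hx hy => simp only [TensorProduct.tmul_add, map_add, hx, hy]
    | tmul b c =>
      ext y
      simp [TensorProduct.smul_tmul']

theorem bijective_iff [Module.Finite R B] [Module.Projective R B] :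
    Function.Bijective (AlgHom.mulLeftRight S (S ⊗[R] B)) ↔
      Function.Bijective ((AlgHom.mulLeftRight R B).toLinearMap.baseChange S) := by
  have h : (fun x => AlgHom.mulLeftRight S (S ⊗[R] B) (envEquiv R S B x)) =
      (fun x => (LinearMap.baseChangeHom R S B B).liftBaseChange S
        ((AlgHom.mulLeftRight R B).toLinearMap.baseChange S x)) :=
    funext (mulLeftRight_envEquiv R S B)
  have h1 : Function.Bijective (AlgHom.mulLeftRight S (S ⊗[R] B)) ↔ Function.Bijective
      ((AlgHom.mulLeftRight S (S ⊗[R] B)) ∘ (envEquiv R S B)) :=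
    (Function.Bijective.of_comp_iff _ (envEquiv R S B).bijective).symm
  have h2 : Function.Bijective ((AlgHom.mulLeftRight R B).toLinearMap.baseChange S) ↔
      Function.Bijective (((LinearMap.baseChangeHom R S B B).liftBaseChange S) ∘
        ((AlgHom.mulLeftRight R B).toLinearMap.baseChange S)) :=
    (Function.Bijective.of_comp_iff' (isBaseChange_hom R S B B) _).symm
  rw [h1, h2]
  exact iff_of_eq (congrArg _ h)

end az

section desc

variable {R : Type u} [CommRing R] (S : Type v) [CommRing S] [Algebra R S]
  {M : Type w} [AddCommGroup M] [Module R M]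

theorem finitePresentation_of_faithfullyFlat [Module.FaithfullyFlat R S]
    [Module.FinitePresentation S (S ⊗[R] M)] : Module.FinitePresentation R M := by
  have : Module.Finite R M := Module.Finite.of_finite_tensorProduct_of_faithfullyFlat S
  obtain ⟨n, f, hf⟩ := Module.Finite.exists_fin' R M
  let K : Submodule R (Fin n → R) := LinearMap.ker f
  let g : S ⊗[R] (Fin n → R) →ₗ[S] S ⊗[R] M := TensorProduct.AlgebraTensorModule.lTensor S S f
  have hg : Function.Surjective g := LinearMap.lTensor_surjective S hf
  have hfg : (LinearMap.ker g).FG := Module.FinitePresentation.fg_ker g hg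
  let k : S ⊗[R] K →ₗ[S] S ⊗[R] (Fin n → R) :=
    TensorProduct.AlgebraTensorModule.lTensor S S K.subtype
  have hk : Function.Injective k :=
    Module.Flat.lTensor_preserves_injective_linearMap K.subtype K.injective_subtype
  have hex : Function.Exact (K.subtype.lTensor S) (f.lTensor S) :=
    Module.Flat.lTensor_exact S (LinearMap.exact_subtype_ker_map f)
  have hr : LinearMap.range k = LinearMap.ker g := by
    ext x
    exact (hex x).symm
  have : Module.Finite S (S ⊗[R] K) := by
    have h1 : Module.Finite S (LinearMap.range k) := by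
      rw [hr, Module.Finite.iff_fg]
      exact hfg
    exact Module.Finite.equiv (LinearEquiv.ofInjective k hk).symm
  have h2 : Module.Finite R K := Module.Finite.of_finite_tensorProduct_of_faithfullyFlat S
  exact Module.finitePresentation_of_surjective f hf (Module.Finite.iff_fg.1 h2)

theorem projective_of_faithfullyFlat [Module.FaithfullyFlat R S]
    [Module.Finite S (S ⊗[R] M)] [Module.Projective S (S ⊗[R] M)] : Module.Projective R M := by
  have : Module.FinitePresentation S (S ⊗[R] M) := Module.finitePresentation_of_projective _ _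
  have h1 : Module.FinitePresentation R M := finitePresentation_of_faithfullyFlat S
  have h2 : Module.Flat R M := Module.Flat.of_flat_tensorProduct R M S
  exact Module.Flat.projective_of_finitePresentation

theorem isAzumaya_of_faithfullyFlat (B : Type w) [Ring B] [Algebra R B]
    [Module.FaithfullyFlat R S] [h : IsAzumaya S (S ⊗[R] B)] : IsAzumaya R B := by
  have h1 : Module.Finite R B := Module.Finite.of_finite_tensorProduct_of_faithfullyFlat S
  have h2 : Module.Projective R B := projective_of_faithfullyFlat S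
  have h3 : FaithfulSMul R B := by
    refine ⟨fun {r s} hrs => ?_⟩
    have hS : Function.Injective (algebraMap R S) := FaithfulSMul.algebraMap_injective R S
    apply hS
    apply FaithfulSMul.eq_of_smul_eq_smul (α := S ⊗[R] B)
    intro z
    induction z using TensorProduct.induction_on with
    | zero => simp
    | tmul t b =>
      rw [algebraMap_smul, algebraMap_smul, ← TensorProduct.tmul_smul, ← TensorProduct.tmul_smul,
        hrs b]
    | add x y hx hy => rw [smul_add, smul_add, hx, hy]
  refine { bij := ?_ }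
  have h4 := (bijective_iff R S B).1 h.bij
  exact (Module.FaithfullyFlat.lTensor_bijective_iff_bijective (R := R) (M := S)
    (AlgHom.mulLeftRight R B).toLinearMap).1 h4

end desc

end K443.AzDesc
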