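import Groth.Agent.Brauer.K443.AzDesc
import Mathlib.RingTheory.LocalRing.Module
import Mathlib.RingTheory.LocalRing.ResidueField.Ideal

/-!
# Azumaya algebras: descent along jointly conservative families
-/

set_option autoImplicit false
universe u v w w'
open scoped TensorProduct
open MulOpposite

namespace K443.AzDesc2

section detect

variable {R : Type u} [CommRing R]

/-- If base change to `S i` (all `i`) detects the vanishing of finite modules, it detects
bijectivity of maps from a finite module to a finite projective one. -/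
theorem bijective_of_detect {ι : Type*} (S : ι → Type v) [∀ i, CommRing (S i)]
    [∀ i, Algebra R (S i)]
    (hS : ∀ (N : Type w) [AddCommGroup N] [Module R N] [Module.Finite R N],
      (∀ i, Subsingleton (S i ⊗[R] N)) → Subsingleton N)
    {P Q : Type w} [AddCommGroup P] [Module R P] [AddCommGroup Q] [Module R Q]
    [Module.Finite R P] [Module.Finite R Q] [Module.Projective R Q] (μ : P →ₗ[R] Q)
    (hμ : ∀ i, Function.Bijective (μ.baseChange (S i))) : Function.Bijective μ := by
  have hsurj : Function.Surjective μ := by
    rw [← LinearMap.range_eq_top, ← Submodule.Quotient.subsingleton_iff]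
    refine hS _ (fun i => ?_)
    have h1 : Function.Surjective ((LinearMap.range μ).mkQ.baseChange (S i)) :=
      LinearMap.lTensor_surjective _ (Submodule.mkQ_surjective _)
    have h0 : (LinearMap.range μ).mkQ ∘ₗ μ = 0 := by
      ext x
      simp
    have h2 : (LinearMap.range μ).mkQ.baseChange (S i) ∘ₗ μ.baseChange (S i) = 0 := by
      rw [← LinearMap.baseChange_comp, h0, LinearMap.baseChange_zero]
    refine subsingleton_of_forall_eq 0 (fun x => ?_)
    obtain ⟨y, rfl⟩ := h1 x
    obtain ⟨z, rfl⟩ := (hμ i).2 y
    exact LinearMap.congr_fun h2 z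
  obtain ⟨s, hs⟩ := Module.projective_lifting_property μ LinearMap.id hsurj
  let K := LinearMap.ker μ
  have hs' : ∀ x, μ (s x) = x := fun x => LinearMap.congr_fun hs x
  let π : P →ₗ[R] K := LinearMap.codRestrict K (LinearMap.id - s ∘ₗ μ) (fun x => by
    simp [K, hs'])
  have hπ : π ∘ₗ K.subtype = LinearMap.id := by
    ext x
    have : μ x.1 = 0 := x.2
    simp [π, this]
  have hπs : Function.Surjective π := fun x => ⟨x.1, LinearMap.congr_fun hπ x⟩
  have hfin : Module.Finite R K := Module.Finite.of_surjective π hπs
  have hK : Subsingleton K := by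
    refine hS K (fun i => ?_)
    refine subsingleton_of_forall_eq 0 (fun x => ?_)
    have h1 : π.baseChange (S i) (K.subtype.baseChange (S i) x) = x := by
      have := LinearMap.congr_fun (LinearMap.baseChange_comp (A := S i) (g := π) K.subtype) x
      rw [hπ, LinearMap.baseChange_id] at this
      exact this.symm
    have h2 : μ.baseChange (S i) (K.subtype.baseChange (S i) x) = 0 := by
      have := LinearMap.congr_fun (LinearMap.baseChange_comp (A := S i) (g := μ) K.subtype) x
      have h0 : μ ∘ₗ K.subtype = 0 := by ext x; exact x.2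
      rw [h0, LinearMap.baseChange_zero] at this
      exact this.symm
    have h3 : K.subtype.baseChange (S i) x = 0 := (hμ i).1 (by rw [h2, map_zero])
    rw [← h1, h3, map_zero]
  refine ⟨?_, hsurj⟩
  rw [← LinearMap.ker_eq_bot]
  exact (Submodule.subsingleton_iff_eq_bot).1 hK

end detect

section surj

variable {R : Type u} [CommRing R] (S : Type v) [CommRing S] [Algebra R S]

theorem finite_hom (M N : Type*) [AddCommGroup M] [Module R M] [AddCommGroup N] [Module R N]
    [Module.Finite R M] [Module.Projective R M] [Module.Finite R N] :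
    Module.Finite R (M →ₗ[R] N) := by
  obtain ⟨n, p, hp⟩ := Module.Finite.exists_fin' R M
  obtain ⟨s, hs⟩ := Module.projective_lifting_property p LinearMap.id hp
  refine Module.Finite.of_surjective ((LinearMap.lcomp R N s) ∘ₗ
    ((Pi.basisFun R (Fin n)).constr R).toLinearMap) (fun f => ?_)
  refine ⟨fun i => f (p (Pi.single i 1)), ?_⟩
  ext x
  have h1 : ((Pi.basisFun R (Fin n)).constr R) (fun i => f (p (Pi.single i 1))) = f ∘ₗ p := by
    refine (Pi.basisFun R (Fin n)).ext (fun i => ?_)
    rw [Module.Basis.constr_basis]
    simp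
  simp only [LinearMap.comp_apply, LinearEquiv.coe_coe, h1, LinearMap.lcomp_apply]
  rw [show p (s x) = x from LinearMap.congr_fun hs x]

theorem projective_hom (M N : Type*) [AddCommGroup M] [Module R M] [AddCommGroup N] [Module R N]
    [Module.Finite R M] [Module.Projective R M] [Module.Projective R N] :
    Module.Projective R (M →ₗ[R] N) := by
  obtain ⟨n, p, hp⟩ := Module.Finite.exists_fin' R M
  obtain ⟨s, hs⟩ := Module.projective_lifting_property p LinearMap.id hp
  let e := ((Pi.basisFun R (Fin n)).constr R : (Fin n → N) ≃ₗ[R] ((Fin n → R) →ₗ[R] N))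
  have hP0 : Module.Projective R (Fin n → N) :=
    Module.Projective.of_equiv (DirectSum.linearEquivFunOnFintype R (Fin n) (fun _ => N))
  have hP : Module.Projective R ((Fin n → R) →ₗ[R] N) := Module.Projective.of_equiv e
  refine Module.Projective.of_split (LinearMap.lcomp R N p) (LinearMap.lcomp R N s) ?_
  ext f x
  simp only [LinearMap.comp_apply, LinearMap.lcomp_apply, LinearMap.id_apply]
  rw [show p (s x) = x from LinearMap.congr_fun hs x]

theorem nontrivial_fibre_iff (q : PrimeSpectrum S) (N : Type w) [AddCommGroup N] [Module R N] :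
    Nontrivial ((PrimeSpectrum.comap (algebraMap R S) q).asIdeal.ResidueField ⊗[R] N) ↔
      Nontrivial (q.asIdeal.ResidueField ⊗[S] (S ⊗[R] N)) := by
  let κ := (PrimeSpectrum.comap (algebraMap R S) q).asIdeal.ResidueField
  let L := q.asIdeal.ResidueField
  let φ : κ →+* L := Ideal.ResidueField.map _ _ (algebraMap R S) rfl
  let _ : Algebra κ L := φ.toAlgebra
  have : IsScalarTower R κ L := by
    refine IsScalarTower.of_algebraMap_eq (fun r => ?_)
    rw [RingHom.algebraMap_toAlgebra]
    simp only [κ, L, φ]
    rw [Ideal.ResidueField.map_algebraMap, ← IsScalarTower.algebraMap_apply]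
  have e1 : L ⊗[κ] (κ ⊗[R] N) ≃ₗ[L] L ⊗[R] N :=
    TensorProduct.AlgebraTensorModule.cancelBaseChange R κ L L N
  have e2 : L ⊗[S] (S ⊗[R] N) ≃ₗ[L] L ⊗[R] N :=
    TensorProduct.AlgebraTensorModule.cancelBaseChange R S L L N
  exact (Module.FaithfullyFlat.nontrivial_tensorProduct_iff_right κ L).symm.trans
    (e1.trans e2.symm).toEquiv.nontrivial_congr

theorem subsingleton_of_surj (hS : Function.Surjective (PrimeSpectrum.comap (algebraMap R S)))
    (N : Type w) [AddCommGroup N] [Module R N] [Module.Finite R N] [Subsingleton (S ⊗[R] N)] :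
    Subsingleton N := by
  rw [← Module.support_eq_empty_iff (R := R), Set.eq_empty_iff_forall_notMem]
  intro p hp
  rw [Module.mem_support_iff_nontrivial_residueField_tensorProduct] at hp
  obtain ⟨q, rfl⟩ := hS p
  have h1 := (nontrivial_fibre_iff S q N).1 hp
  exact not_subsingleton _ (inferInstance : Subsingleton (q.asIdeal.ResidueField ⊗[S] (S ⊗[R] N)))

theorem faithfullyFlat_of_fibres (M : Type w) [AddCommGroup M] [Module R M] [Module.Finite R M]
    [Module.Projective R M]
    (h : ∀ p : PrimeSpectrum R, p ∈ Module.support R M) : Module.FaithfullyFlat R M := by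
  refine ⟨fun m hm htop => ?_⟩
  have h1 := h ⟨m, hm.isPrime⟩
  rw [Module.mem_support_iff_nontrivial_residueField_tensorProduct] at h1
  change Nontrivial (m.ResidueField ⊗[R] M) at h1
  have h2 : Subsingleton ((R ⧸ m) ⊗[R] M) := by
    have e := TensorProduct.quotTensorEquivQuotSMul M m
    have : Subsingleton (M ⧸ m • (⊤ : Submodule R M)) :=
      Submodule.Quotient.subsingleton_iff.2 htop
    exact e.toEquiv.subsingleton
  have e3 : m.ResidueField ⊗[R ⧸ m] ((R ⧸ m) ⊗[R] M) ≃ₗ[m.ResidueField] m.ResidueField ⊗[R] M :=
    TensorProduct.AlgebraTensorModule.cancelBaseChange R (R ⧸ m) m.ResidueField m.ResidueField M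
  have h3 : Subsingleton (m.ResidueField ⊗[R] M) := e3.symm.toEquiv.subsingleton
  exact not_subsingleton _ h3

theorem faithful_of_fibres (M : Type w) [AddCommGroup M] [Module R M] [Module.Finite R M]
    [Module.Projective R M]
    (h : ∀ p : PrimeSpectrum R, p ∈ Module.support R M) : FaithfulSMul R M := by
  have := faithfullyFlat_of_fibres M h
  refine ⟨fun {r s} hrs => ?_⟩
  have h1 : LinearMap.lTensor M (LinearMap.lsmul R R r - LinearMap.lsmul R R s) = 0 := by
    ext x
    have h2 : x ⊗ₜ[R] r = x ⊗ₜ[R] s := by
      rw [← mul_one r, ← mul_one s, ← smul_eq_mul, ← smul_eq_mul, TensorProduct.tmul_smul,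
        TensorProduct.tmul_smul, TensorProduct.smul_tmul', TensorProduct.smul_tmul', hrs x]
    simp [h2]
  have h2 := (Module.FaithfullyFlat.zero_iff_lTensor_zero R M _).2 h1
  have h3 := LinearMap.congr_fun h2 1
  simpa [sub_eq_zero] using h3

theorem isAzumaya_of_surj (hS : Function.Surjective (PrimeSpectrum.comap (algebraMap R S)))
    (B : Type w) [Ring B] [Algebra R B] [Module.Finite R B] [Module.Projective R B]
    [h : IsAzumaya S (S ⊗[R] B)] : IsAzumaya R B := by
  have h3 : FaithfulSMul R B := by
    refine faithful_of_fibres B (fun p => ?_)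
    rw [Module.mem_support_iff_nontrivial_residueField_tensorProduct]
    obtain ⟨q, rfl⟩ := hS p
    rw [nontrivial_fibre_iff, ← Module.mem_support_iff_nontrivial_residueField_tensorProduct,
      Module.support_eq_zeroLocus]
    have : Module.annihilator S (S ⊗[R] B) = ⊥ := by
      rw [Module.annihilator_eq_bot]
      infer_instance
    rw [this]
    simp
  have hfin : Module.Finite R (Module.End R B) := finite_hom B B
  have hproj : Module.Projective R (Module.End R B) := projective_hom B B
  refine { bij := ?_ }
  refine bijective_of_detect (fun _ : Unit => S) (fun N _ _ _ h => ?_)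
    (AlgHom.mulLeftRight R B).toLinearMap (fun _ => ?_)
  · have := h ()
    exact subsingleton_of_surj S hS N
  · exact (AzDesc.bijective_iff R S B).1 h.bij

end surj

end K443.AzDesc2
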