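import Groth.Agent.Brauer.K443.AzDesc2
import Groth.Agent.Brauer.K444.AzOps
import Groth.Agent.Pi1C.MilnorEt
import Groth.Agent.Etalg.Milnor3

/-!
# Azumaya algebras and Milnor squares
-/

set_option autoImplicit false
universe u v w w'
open scoped TensorProduct
open MulOpposite

namespace K443.AzMil

section gen

variable {R : Type u} [CommRing R] (S : Type v) [CommRing S] [Algebra R S]
  {P Q : Type w} [AddCommGroup P] [Module R P] [AddCommGroup Q] [Module R Q] (μ : P →ₗ[R] Q)

theorem coker_subsingleton (h : Function.Surjective (μ.baseChange S)) :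
    Subsingleton (S ⊗[R] (Q ⧸ LinearMap.range μ)) := by
  have h1 : Function.Surjective ((LinearMap.range μ).mkQ.baseChange S) :=
    LinearMap.lTensor_surjective _ (Submodule.mkQ_surjective _)
  have h0 : (LinearMap.range μ).mkQ ∘ₗ μ = 0 := by
    ext x
    simp
  have h2 : (LinearMap.range μ).mkQ.baseChange S ∘ₗ μ.baseChange S = 0 := by
    rw [← LinearMap.baseChange_comp, h0, LinearMap.baseChange_zero]
  refine subsingleton_of_forall_eq 0 (fun x => ?_)
  obtain ⟨y, rfl⟩ := h1 x
  obtain ⟨z, rfl⟩ := h y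
  exact LinearMap.congr_fun h2 z

theorem ker_subsingleton (s : Q →ₗ[R] P) (hs : ∀ x, μ (s x) = x)
    (h : Function.Injective (μ.baseChange S)) : Subsingleton (S ⊗[R] (LinearMap.ker μ)) := by
  let K := LinearMap.ker μ
  let π : P →ₗ[R] K := LinearMap.codRestrict K (LinearMap.id - s ∘ₗ μ) (fun x => by
    simp [K, hs])
  have hπ : π ∘ₗ K.subtype = LinearMap.id := by
    ext x
    have : μ x.1 = 0 := x.2
    simp [π, this]
  refine subsingleton_of_forall_eq 0 (fun x => ?_)
  have h1 : π.baseChange S (K.subtype.baseChange S x) = x := by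
    have := LinearMap.congr_fun (LinearMap.baseChange_comp (A := S) (g := π) K.subtype) x
    rw [hπ, LinearMap.baseChange_id] at this
    exact this.symm
  have h2 : μ.baseChange S (K.subtype.baseChange S x) = 0 := by
    have := LinearMap.congr_fun (LinearMap.baseChange_comp (A := S) (g := μ) K.subtype) x
    have h0 : μ ∘ₗ K.subtype = 0 := by ext x; exact x.2
    rw [h0, LinearMap.baseChange_zero] at this
    exact this.symm
  have h3 : K.subtype.baseChange S x = 0 := h (by rw [h2, map_zero])
  rw [← h1, h3, map_zero]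

end gen

variable {B' B A' A : Type u} [CommRing B'] [CommRing B] [CommRing A'] [CommRing A]
    [Algebra B' B] [Algebra B' A'] [Algebra B A] [Algebra A' A] [Algebra B' A]
    [IsScalarTower B' B A] [IsScalarTower B' A' A]

theorem bijective_of_pair (hsq : EtMil.IsFibreSquare B' B A' A)
    {P Q : Type u} [AddCommGroup P] [Module B' P] [AddCommGroup Q] [Module B' Q]
    [Module.Projective B' Q] (μ : P →ₗ[B'] Q) (h1 : Function.Bijective (μ.baseChange B))
    (h2 : Function.Bijective (μ.baseChange A')) : Function.Bijective μ := by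
  have hsurj : Function.Surjective μ := by
    rw [← LinearMap.range_eq_top, ← Submodule.Quotient.subsingleton_iff]
    exact Groth.Agent.Pi1C.MilnorEt.subsingleton_of_baseChange B' B A' A hsq _
      (coker_subsingleton B μ h1.2) (coker_subsingleton A' μ h2.2)
  obtain ⟨s, hs⟩ := Module.projective_lifting_property μ LinearMap.id hsurj
  have hs' : ∀ x, μ (s x) = x := fun x => LinearMap.congr_fun hs x
  have hK : Subsingleton (LinearMap.ker μ) :=
    Groth.Agent.Pi1C.MilnorEt.subsingleton_of_baseChange B' B A' A hsq _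
      (ker_subsingleton B μ s hs' h1.1) (ker_subsingleton A' μ s hs' h2.1)
  refine ⟨?_, hsurj⟩
  rw [← LinearMap.ker_eq_bot]
  exact (Submodule.subsingleton_iff_eq_bot).1 hK

variable (B' B A' A) in
/-- The tautological glueing datum. -/
noncomputable def phi (L : Type u) [AddCommGroup L] [Module B' L] :
    A ⊗[B] (B ⊗[B'] L) ≃ₗ[A] A ⊗[A'] (A' ⊗[B'] L) :=
  (TensorProduct.AlgebraTensorModule.cancelBaseChange B' B A A L) ≪≫ₗ
    (TensorProduct.AlgebraTensorModule.cancelBaseChange B' A' A A L).symm

theorem phi_tmul (L : Type u) [AddCommGroup L] [Module B' L] (l : L) :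
    phi B' B A' A L ((1 : A) ⊗ₜ[B] ((1 : B) ⊗ₜ[B'] l)) = (1 : A) ⊗ₜ[A'] ((1 : A') ⊗ₜ[B'] l) := by
  simp [phi]

section unit

variable {N M' : Type u} [AddCommGroup N] [Module B N] [Module B' N] [IsScalarTower B' B N]
  [AddCommGroup M'] [Module A' M'] [Module B' M'] [IsScalarTower B' A' M']
  {L : Type u} [AddCommGroup L] [Module B' L] (φ : A ⊗[B] N ≃ₗ[A] A ⊗[A'] M')
  (n : L →ₗ[B'] N) (m : L →ₗ[B'] M')
  (hφ : ∀ l : L, φ ((1 : A) ⊗ₜ[B] n l) = (1 : A) ⊗ₜ[A'] m l)

/-- The unit of the glueing adjunction. -/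
def unitGlue : L →ₗ[B'] EtMil.glue B' φ :=
  LinearMap.codRestrict _ (n.prod m) (fun l => hφ l)

theorem glueFst_unitGlue (l : L) : EtMil.glueFst B' φ (unitGlue φ n m hφ l) = n l := rfl

theorem glueSnd_unitGlue (l : L) : EtMil.glueSnd B' φ (unitGlue φ n m hφ l) = m l := rfl

theorem bijective_unitGlue (hsq : EtMil.IsFibreSquare B' B A' A)
    [Module.Finite B N] [Module.Projective B N] [Module.Finite A' M'] [Module.Projective A' M']
    (hn : Function.Bijective (LinearMap.liftBaseChange B n))
    (hm : Function.Bijective (LinearMap.liftBaseChange A' m)) :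
    Function.Bijective (unitGlue φ n m hφ) := by
  have hproj : Module.Projective B' (EtMil.glue B' φ) :=
    Groth.Agent.Etalg.Milnor3.projective_glue hsq φ
  refine bijective_of_pair hsq (unitGlue φ n m hφ) ?_ ?_
  · have hg := Groth.Agent.Etalg.Milnor.baseChange_fst_bijective hsq φ
    have hcomp : (LinearMap.liftBaseChange B (EtMil.glueFst B' φ)) ∘ₗ
        (unitGlue φ n m hφ).baseChange B = LinearMap.liftBaseChange B n := by
      ext l
      simp [glueFst_unitGlue]
    refine (Function.Bijective.of_comp_iff' hg _).1 ?_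
    rw [← LinearMap.coe_comp, hcomp]
    exact hn
  · have hg := Groth.Agent.Etalg.Milnor.baseChange_snd_bijective hsq φ
    have hcomp : (LinearMap.liftBaseChange A' (EtMil.glueSnd B' φ)) ∘ₗ
        (unitGlue φ n m hφ).baseChange A' = LinearMap.liftBaseChange A' m := by
      ext l
      simp [glueSnd_unitGlue]
    refine (Function.Bijective.of_comp_iff' hg _).1 ?_
    rw [← LinearMap.coe_comp, hcomp]
    exact hm

include hφ in
theorem finite_projective_of_glue (hsq : EtMil.IsFibreSquare B' B A' A)
    [Module.Finite B N] [Module.Projective B N] [Module.Finite A' M'] [Module.Projective A' M']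
    (hn : Function.Bijective (LinearMap.liftBaseChange B n))
    (hm : Function.Bijective (LinearMap.liftBaseChange A' m)) :
    Module.Finite B' L ∧ Module.Projective B' L := by
  have hfin : Module.Finite B' (EtMil.glue B' φ) := Groth.Agent.Etalg.Milnor3.finite_glue hsq φ
  have hproj : Module.Projective B' (EtMil.glue B' φ) :=
    Groth.Agent.Etalg.Milnor3.projective_glue hsq φ
  have e := LinearEquiv.ofBijective _ (bijective_unitGlue φ n m hφ hsq hn hm)
  exact ⟨Module.Finite.equiv e.symm, Module.Projective.of_equiv e.symm⟩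

end unit

theorem liftBaseChange_mk_bijective (R S L : Type u) [CommRing R] [CommRing S] [Algebra R S]
    [AddCommGroup L] [Module R L] :
    Function.Bijective (LinearMap.liftBaseChange S (TensorProduct.mk R S L 1)) := by
  have : LinearMap.liftBaseChange S (TensorProduct.mk R S L 1) = LinearMap.id := by
    ext l
    simp
  rw [this]
  exact Function.bijective_id

theorem finite_projective_of_pair (hsq : EtMil.IsFibreSquare B' B A' A)
    (L : Type u) [AddCommGroup L] [Module B' L] [Module.Finite B (B ⊗[B'] L)]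
    [Module.Projective B (B ⊗[B'] L)] [Module.Finite A' (A' ⊗[B'] L)]
    [Module.Projective A' (A' ⊗[B'] L)] : Module.Finite B' L ∧ Module.Projective B' L :=
  finite_projective_of_glue (phi B' B A' A L) (TensorProduct.mk B' B L 1)
    (TensorProduct.mk B' A' L 1) (phi_tmul L) hsq (liftBaseChange_mk_bijective B' B L)
    (liftBaseChange_mk_bijective B' A' L)

theorem isAzumaya_of_pair (hsq : EtMil.IsFibreSquare B' B A' A)
    (D : Type u) [Ring D] [Algebra B' D] (h1 : IsAzumaya B (B ⊗[B'] D))
    (h2 : IsAzumaya A' (A' ⊗[B'] D)) : IsAzumaya B' D := by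
  obtain ⟨hfin, hproj⟩ := finite_projective_of_pair hsq D
  have hfaith : FaithfulSMul B' D := by
    refine ⟨fun {r s} hrs => ?_⟩
    apply Groth.Agent.Etalg.Milnor.ext_of hsq
    · apply FaithfulSMul.eq_of_smul_eq_smul (α := B ⊗[B'] D)
      intro z
      induction z using TensorProduct.induction_on with
      | zero => simp
      | tmul t b =>
        rw [algebraMap_smul, algebraMap_smul, ← TensorProduct.tmul_smul, ← TensorProduct.tmul_smul,
          hrs b]
      | add x y hx hy => rw [smul_add, smul_add, hx, hy]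
    · apply FaithfulSMul.eq_of_smul_eq_smul (α := A' ⊗[B'] D)
      intro z
      induction z using TensorProduct.induction_on with
      | zero => simp
      | tmul t b =>
        rw [algebraMap_smul, algebraMap_smul, ← TensorProduct.tmul_smul, ← TensorProduct.tmul_smul,
          hrs b]
      | add x y hx hy => rw [smul_add, smul_add, hx, hy]
  have hprojE : Module.Projective B' (Module.End B' D) := AzDesc2.projective_hom D D
  refine { bij := ?_ }
  exact bijective_of_pair hsq (AlgHom.mulLeftRight B' D).toLinearMap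
    ((AzDesc.bijective_iff B' B D).1 h1.bij) ((AzDesc.bijective_iff B' A' D).1 h2.bij)

theorem isAzumaya_iff_pair (hsq : EtMil.IsFibreSquare B' B A' A)
    (D : Type u) [Ring D] [Algebra B' D] :
    IsAzumaya B' D ↔ IsAzumaya B (B ⊗[B'] D) ∧ IsAzumaya A' (A' ⊗[B'] D) :=
  ⟨fun _ => ⟨K444.AzOps.isAzumaya_baseChange B, K444.AzOps.isAzumaya_baseChange A'⟩,
    fun h => isAzumaya_of_pair hsq D h.1 h.2⟩

theorem isAzumaya_of_glue (hsq : EtMil.IsFibreSquare B' B A' A)
    (N : Type u) [Ring N] [Algebra B N] [Algebra B' N] [IsScalarTower B' B N] [IsAzumaya B N]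
    (M' : Type u) [Ring M'] [Algebra A' M'] [Algebra B' M'] [IsScalarTower B' A' M'] [IsAzumaya A' M']
    (φ : A ⊗[B] N ≃ₐ[A] A ⊗[A'] M')
    (D' : Type u) [Ring D'] [Algebra B' D'] (π₁ : D' →ₐ[B'] N) (π₂ : D' →ₐ[B'] M')
    (hinj : ∀ d : D', π₁ d = 0 → π₂ d = 0 → d = 0)
    (himg : ∀ (n : N) (m' : M'), φ ((1 : A) ⊗ₜ[B] n) = (1 : A) ⊗ₜ[A'] m' ↔ ∃ d : D', π₁ d = n ∧ π₂ d = m') :
    IsAzumaya B' D' := by
  let ψ : A ⊗[B] N ≃ₗ[A] A ⊗[A'] M' := φ.toLinearEquiv
  let u : D' →ₗ[B'] EtMil.glue B' ψ :=
    { toFun := fun d => ⟨(π₁ d, π₂ d), (himg _ _).2 ⟨d, rfl, rfl⟩⟩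
      map_add' := fun x y => by ext <;> simp
      map_smul' := fun r x => by ext <;> simp }
  have hu : Function.Bijective u := by
    constructor
    · rw [injective_iff_map_eq_zero]
      intro d hd
      have h3 := congrArg Subtype.val hd
      exact hinj d (congrArg Prod.fst h3) (congrArg Prod.snd h3)
    · rintro ⟨⟨n, m⟩, hnm⟩
      obtain ⟨d, rfl, rfl⟩ := (himg n m).1 hnm
      exact ⟨d, rfl⟩
  have hub : ∀ (S : Type u) [CommRing S] [Algebra B' S], Function.Bijective (u.baseChange S) :=
    fun S _ _ => (LinearEquiv.baseChange B' S _ _ (LinearEquiv.ofBijective u hu)).bijective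
  -- the algebra maps
  let f1 : B ⊗[B'] D' →ₐ[B] N := Algebra.TensorProduct.lift (Algebra.ofId B N) π₁
    (fun x y => Algebra.commutes x (π₁ y))
  let f2 : A' ⊗[B'] D' →ₐ[A'] M' := Algebra.TensorProduct.lift (Algebra.ofId A' M') π₂
    (fun x y => Algebra.commutes x (π₂ y))
  have hf1 : Function.Bijective f1 := by
    have h3 : (f1 : B ⊗[B'] D' → N) = (LinearMap.liftBaseChange B (EtMil.glueFst B' ψ)) ∘
        u.baseChange B := by
      have : f1.toLinearMap = (LinearMap.liftBaseChange B (EtMil.glueFst B' ψ)) ∘ₗ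
        u.baseChange B := by
        ext d
        simp [f1, EtMil.glueFst, u]
      exact congrArg DFunLike.coe this
    rw [h3]
    exact (Groth.Agent.Etalg.Milnor.baseChange_fst_bijective hsq ψ).comp (hub B)
  have hf2 : Function.Bijective f2 := by
    have h3 : (f2 : A' ⊗[B'] D' → M') = (LinearMap.liftBaseChange A' (EtMil.glueSnd B' ψ)) ∘
        u.baseChange A' := by
      have : f2.toLinearMap = (LinearMap.liftBaseChange A' (EtMil.glueSnd B' ψ)) ∘ₗ
        u.baseChange A' := by
        ext d
        simp [f2, EtMil.glueSnd, u]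
      exact congrArg DFunLike.coe this
    rw [h3]
    exact (Groth.Agent.Etalg.Milnor.baseChange_snd_bijective hsq ψ).comp (hub A')
  exact isAzumaya_of_pair hsq D'
    (IsAzumaya.of_AlgEquiv B N _ (AlgEquiv.ofBijective f1 hf1).symm)
    (IsAzumaya.of_AlgEquiv A' M' _ (AlgEquiv.ofBijective f2 hf2).symm)

end K443.AzMil
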