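import Groth.Agent.Brauer.K443.BSFin

/-!
# Forms of projective space with a rational point are trivial (Galois splitting)
-/

set_option autoImplicit false
universe u

open CategoryTheory CategoryTheory.Limits AlgebraicGeometry

namespace K443.BSPoint

open BrSev K443.PnPt K443.PnUni K443.PnMor K443.PnAut K443.FinH90 K443.BSFin GalTw Matrix

/-- A form of projective space split by a finite Galois extension and with a rational point is projective space. -/
theorem main {k K : Type u} [Field k] [Field K] [Algebra k K] [FiniteDimensional k K] [IsGalois k K]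
    {n : ℕ} {X : Scheme.{u}} {f : X ⟶ Spec (CommRingCat.of k)} (e : Splitting f K n)
    (x : Spec (CommRingCat.of k) ⟶ X) (hx : x ≫ f = 𝟙 _) :
    ∃ g : CohB1.ProjSpace n k ≅ X, g.hom ≫ f = CohB1.ProjSpace.toSpec n k := by
  obtain ⟨G, hG, hc⟩ := exists_mats e
  -- the point over `K`
  let xK : Spec (CommRingCat.of K) ⟶ bc f K :=
    pullback.lift (Spec.map (CommRingCat.ofHom (algebraMap k K)) ≫ x) (𝟙 _) (by
      rw [Category.assoc, hx, Category.comp_id, Category.id_comp])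
  have hx1 : xK ≫ proj f K = Spec.map (CommRingCat.ofHom (algebraMap k K)) ≫ x := pullback.lift_fst _ _ _
  have hx2 : xK ≫ bcTo f K = 𝟙 _ := pullback.lift_snd _ _ _
  have hxτ : ∀ τ : K ≃ₐ[k] K, xK ≫ (galMap K τ (Over.mk f) : bc f K ⟶ bc f K) = specMap K τ ≫ xK := by
    intro τ
    have e1 : (galMap K τ (Over.mk f) : bc f K ⟶ bc f K) ≫ proj f K = proj f K := galMap_fst K τ _
    have e2 : (galMap K τ (Over.mk f) : bc f K ⟶ bc f K) ≫ bcTo f K = bcTo f K ≫ specMap K τ := galMap_snd K τ _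
    apply pullback.hom_ext
    · change (xK ≫ _) ≫ proj f K = (_ ≫ xK) ≫ proj f K
      rw [Category.assoc, e1, Category.assoc, hx1, ← Category.assoc, ← Spec.map_comp]
      congr 2
      ext c
      exact (τ.commutes c).symm
    · change (xK ≫ _) ≫ bcTo f K = (_ ≫ xK) ≫ bcTo f K
      rw [Category.assoc, e2, ← Category.assoc, hx2, Category.assoc, hx2, Category.comp_id, Category.id_comp]
  obtain ⟨v, i, hi, hv⟩ := exists_jPt (xK ≫ e.iso.hom) (RingHom.id K) (by
    rw [Category.assoc, e.comm, hx2]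
    exact (Spec.map_id _).symm)
  have hvu : IsUni v := isUni_of_isUnit hi
  rw [← uPt_eq_jPt _ _ hvu] at hv
  have hv0 : v ≠ 0 := by
    rintro rfl
    exact not_isUnit_zero hi
  have e1 : ∀ Z : Matrix (Fin (n + 1)) (Fin (n + 1)) K, Z.map (RingHom.id K) = Z := fun Z => by ext; rfl
  -- the matrices move the point to its conjugates
  have hmove : ∀ τ : K ≃ₐ[k] K, ∃ c : Kˣ, Matrix.vecMul v (G τ : Matrix (Fin (n + 1)) (Fin (n + 1)) K) = (c : K) • (τ ∘ v) := by
    intro τ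
    have h1 : uPt (RingHom.id K) v hvu ≫ al e τ = Spec.map (CommRingCat.ofHom (τ.toRingEquiv : K →+* K)) ≫ uPt (RingHom.id K) v hvu := by
      rw [← hv, al]
      simp only [Category.assoc, Iso.hom_inv_id_assoc]
      rw [← Category.assoc, hxτ, Category.assoc]
      rfl
    have hu : IsUni (Matrix.vecMul v (Matrix.map (G τ : Matrix (Fin (n + 1)) (Fin (n + 1)) K) (RingHom.id K))) :=
      isUni_vecMul_map _ hvu (G τ).mul_inv
    rw [hG τ K (RingHom.id K) v hvu hu, spec_uPt' _ _ _ _ (hvu.map (τ.toRingEquiv : K →+* K))] at h1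
    have h2 : uPt (τ.toRingEquiv : K →+* K) (Matrix.vecMul v (Matrix.map (G τ : Matrix (Fin (n + 1)) (Fin (n + 1)) K) (RingHom.id K))) hu =
        uPt (τ.toRingEquiv : K →+* K) ((τ.toRingEquiv : K →+* K) ∘ v) (hvu.map _) := by
      refine Eq.trans (uPt_congr ?_ rfl _ _) (h1.trans (uPt_congr ?_ rfl _ _))
      · ext; rfl
      · ext; rfl
    obtain ⟨c, hc0, hc⟩ := exists_smul _ _ _ _ _ h2
    rw [e1] at hc
    exact ⟨Units.mk0 c hc0, hc⟩
  choose c hcv using hmove
  -- normalised matrices form a cocycle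
  let B : (K ≃ₐ[k] K) → GL (Fin (n + 1)) K := fun τ => sc (n + 1) (c τ)⁻¹ * G τ
  have hB : ∀ τ, G τ = sc (n + 1) (c τ) * B τ := by
    intro τ
    change _ = _ * (sc (n + 1) (c τ)⁻¹ * G τ)
    rw [← mul_assoc, ← sc_mul, mul_inv_cancel, sc_one, one_mul]
  have hBv : ∀ τ, Matrix.vecMul v (B τ : Matrix (Fin (n + 1)) (Fin (n + 1)) K) = τ ∘ v := by
    intro τ
    change Matrix.vecMul v ((sc (n + 1) (c τ)⁻¹ * G τ : GL (Fin (n + 1)) K) : Matrix (Fin (n + 1)) (Fin (n + 1)) K) = _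
    rw [Units.val_mul, sc_coe, smul_mul, Matrix.one_mul, vecMul_smul, hcv, smul_smul, Units.inv_mul, one_smul]
  have hBc : ∀ τ ρ : K ≃ₐ[k] K, B τ * act τ (B ρ) = B (τ * ρ) := by
    intro τ ρ
    obtain ⟨d, hd⟩ := hc τ ρ
    -- the two sides are proportional
    obtain ⟨d', hd'⟩ : ∃ d' : Kˣ, B τ * act τ (B ρ) = sc (n + 1) d' * B (τ * ρ) := by
      refine ⟨(c τ)⁻¹ * (Units.map (τ : K →* K) (c ρ))⁻¹ * d * c (τ * ρ), ?_⟩
      have h1 : act τ (B ρ) = sc (n + 1) (Units.map (τ : K →* K) (c ρ))⁻¹ * act τ (G ρ) := by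
        change act τ (sc (n + 1) (c ρ)⁻¹ * G ρ) = _
        rw [map_mul, act_sc, map_inv]
      have h2 : B τ * act τ (B ρ) = sc (n + 1) ((c τ)⁻¹ * (Units.map (τ : K →* K) (c ρ))⁻¹) * (G τ * act τ (G ρ)) := by
        rw [h1, sc_mul]
        change sc (n + 1) (c τ)⁻¹ * G τ * _ = _
        rw [mul_assoc, ← mul_assoc (G τ), ← sc_comm _ (G τ)]
        simp only [mul_assoc]
      rw [h2, hd, hB (τ * ρ), ← mul_assoc, ← sc_mul, ← mul_assoc, ← sc_mul]
    -- compare on `v`
    have h3 : Matrix.vecMul v ((B τ * act τ (B ρ) : GL (Fin (n + 1)) K) : Matrix (Fin (n + 1)) (Fin (n + 1)) K) = (τ * ρ : K ≃ₐ[k] K) ∘ v := by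
      rw [Units.val_mul, ← vecMul_vecMul, hBv, act_coe]
      have h4 := map_vecMul (τ : K →+* K) v (B ρ : Matrix (Fin (n + 1)) (Fin (n + 1)) K)
      rw [hBv] at h4
      exact h4.symm
    rw [hd', Units.val_mul, sc_coe, smul_mul, Matrix.one_mul, vecMul_smul, hBv] at h3
    have h5 : d' = 1 := by
      have h6 := congrFun h3 i
      rw [Pi.smul_apply, smul_eq_mul] at h6
      have h7 : ((τ * ρ : K ≃ₐ[k] K) ∘ v) i ≠ 0 := (hi.map (τ * ρ : K ≃ₐ[k] K)).ne_zero
      ext
      exact mul_right_cancel₀ h7 (h6.trans (one_mul _).symm)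
    rw [hd', h5, sc_one, one_mul]
  obtain ⟨A, hA⟩ := Groth.Agent.S11079.result k K (n + 1) B (fun τ ρ => congrArg Units.val (hBc τ ρ))
  refine iso_of_coboundary e G hG A fun τ => ⟨c τ, ?_⟩
  rw [hB τ]
  congr 1
  exact Units.ext (hA τ)

end K443.BSPoint
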