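import Mathlib.FieldTheory.Galois.Infinite
import Mathlib.RingTheory.TwoSidedIdeal.Operations
import Mathlib.RingTheory.SimpleRing.Basic
import Mathlib.RingTheory.TensorProduct.Free
import Mathlib.RingTheory.TensorProduct.Maps
import Mathlib.LinearAlgebra.Basis.VectorSpace

/-!
# Galois descent of subspaces and the Galois action on minimal ideals of `L ⊗ A`
-/

set_option autoImplicit false
universe u v w
open scoped TensorProduct

namespace K443.GalIdeal

variable {K : Type u} {L : Type v} [Field K] [Field L] [Algebra K L] {A : Type w} [Ring A]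
  [Algebra K A]

/-- The semilinear action. -/
noncomputable abbrev tau (A : Type w) [Ring A] [Algebra K A] (γ : L ≃ₐ[K] L) :
    L ⊗[K] A →ₐ[K] L ⊗[K] A :=
  Algebra.TensorProduct.map (γ : L →ₐ[K] L) (AlgHom.id K A)

theorem tau_mul (γ δ : L ≃ₐ[K] L) (x : L ⊗[K] A) : tau A (γ * δ) x = tau A γ (tau A δ x) := by
  induction x using TensorProduct.induction_on with
  | zero => simp
  | tmul l a => simp
  | add x y hx hy => rw [map_add, map_add, map_add, hx, hy]

theorem tau_one (x : L ⊗[K] A) : tau A (1 : L ≃ₐ[K] L) x = x := by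
  induction x using TensorProduct.induction_on with
  | zero => simp
  | tmul l a => simp
  | add x y hx hy => rw [map_add, hx, hy]

theorem tau_smul (γ : L ≃ₐ[K] L) (l : L) (x : L ⊗[K] A) : tau A γ (l • x) = γ l • tau A γ x := by
  induction x using TensorProduct.induction_on with
  | zero => simp
  | tmul l a => simp [TensorProduct.smul_tmul']
  | add x y hx hy => rw [smul_add, map_add, map_add, hx, hy, smul_add]

theorem repr_tau {ι : Type*} (b : Module.Basis ι K A) (γ : L ≃ₐ[K] L) (x : L ⊗[K] A) (i : ι) :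
    (b.baseChange L).repr (tau A γ x) i = γ ((b.baseChange L).repr x i) := by
  induction x using TensorProduct.induction_on with
  | zero => simp
  | tmul l a => simp [Module.Basis.baseChange_repr_tmul, Algebra.smul_def]
  | add x y hx hy => simp only [map_add, Finsupp.add_apply, hx, hy]

/-- A nonzero Galois stable subspace of `L ⊗ A` contains a nonzero element of `A`. -/
theorem exists_one_tmul [IsGalois K L] (T : Submodule L (L ⊗[K] A)) (hT : T ≠ ⊥)
    (hst : ∀ (γ : L ≃ₐ[K] L), ∀ x ∈ T, tau A γ x ∈ T) : ∃ a : A, a ≠ 0 ∧ (1 : L) ⊗ₜ[K] a ∈ T := by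
  classical
  let b := Module.Basis.ofVectorSpace K A
  let B := b.baseChange L
  obtain ⟨x₀, hx₀, hx₀0⟩ := (Submodule.ne_bot_iff _).1 hT
  -- minimal support
  have hP : ∃ n : ℕ, ∃ x ∈ T, x ≠ 0 ∧ (B.repr x).support.card = n := ⟨_, x₀, hx₀, hx₀0, rfl⟩
  obtain ⟨x, hxT, hx0, hxn⟩ := Nat.find_spec hP
  have hmin : ∀ y ∈ T, (B.repr y).support.card < (B.repr x).support.card → y = 0 := by
    intro y hy hlt
    by_contra hy0
    rw [hxn] at hlt
    exact Nat.find_min hP hlt ⟨y, hy, hy0, rfl⟩
  have hne : (B.repr x).support.Nonempty := by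
    rw [Finsupp.support_nonempty_iff]
    intro h
    exact hx0 (B.repr.map_eq_zero_iff.1 h)
  obtain ⟨i₀, hi₀⟩ := hne
  have hi₀' : B.repr x i₀ ≠ 0 := Finsupp.mem_support_iff.1 hi₀
  let z := (B.repr x i₀)⁻¹ • x
  have hzT : z ∈ T := T.smul_mem _ hxT
  have hz1 : B.repr z i₀ = 1 := by
    simp [z, inv_mul_cancel₀ hi₀']
  have hzs : (B.repr z).support = (B.repr x).support := by
    ext i
    simp [z, hi₀']
  have hfix : ∀ γ : L ≃ₐ[K] L, tau A γ z = z := by
    intro γ
    rw [← sub_eq_zero]
    refine hmin _ (T.sub_mem (hst γ z hzT) hzT) ?_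
    refine Finset.card_lt_card ⟨?_, fun hle => ?_⟩
    · intro i hi
      rw [← hzs]
      rw [Finsupp.mem_support_iff] at hi ⊢
      intro h0
      apply hi
      rw [map_sub, Finsupp.sub_apply, repr_tau b γ z i]
      change γ (B.repr z i) - B.repr z i = 0
      rw [h0, map_zero, sub_zero]
    · have h1 := hle hi₀
      rw [Finsupp.mem_support_iff] at h1
      apply h1
      rw [map_sub, Finsupp.sub_apply, repr_tau b γ z i₀]
      change γ (B.repr z i₀) - B.repr z i₀ = 0
      rw [hz1, map_one, sub_self]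
  have hcoef : ∀ i, ∃ c : K, algebraMap K L c = B.repr z i := by
    intro i
    have h1 : B.repr z i ∈ (⊥ : IntermediateField K L) := by
      rw [InfiniteGalois.mem_bot_iff_fixed]
      intro γ
      have := repr_tau b γ z i
      rw [hfix γ] at this
      exact this.symm
    rw [IntermediateField.mem_bot] at h1
    exact h1
  choose c hc using hcoef
  refine ⟨∑ i ∈ (B.repr z).support, c i • b i, ?_, ?_⟩
  · intro h0
    have h1 : (B.repr z).support.sum (fun i => c i • b i) = 0 := h0
    have h2 := (linearIndependent_iff'.1 b.linearIndependent) (B.repr z).support c h1 i₀ (by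
      rw [Finsupp.mem_support_iff, hz1]; exact one_ne_zero)
    have h3 := hc i₀
    rw [h2, map_zero, hz1] at h3
    exact zero_ne_one h3
  · have h1 : z = (1 : L) ⊗ₜ[K] (∑ i ∈ (B.repr z).support, c i • b i) := by
      conv_lhs => rw [← B.linearCombination_repr z, Finsupp.linearCombination_apply, Finsupp.sum]
      rw [TensorProduct.tmul_sum]
      refine Finset.sum_congr rfl (fun i _ => ?_)
      rw [← hc i, TensorProduct.tmul_smul, algebraMap_smul]
      congr 1
      simp [B]
    rw [← h1]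
    exact hzT

theorem transitive [IsGalois K L] [IsSimpleRing A]
    (I J : TwoSidedIdeal (L ⊗[K] A)) (hI : IsAtom I) (hJ : IsAtom J) :
    ∃ γ : L ≃ₐ[K] L, (J : Set (L ⊗[K] A)) = tau A γ '' (I : Set (L ⊗[K] A)) := by
  by_contra hcon
  push Not at hcon
  have hbot : ∀ I' : TwoSidedIdeal (L ⊗[K] A), I' ≠ ⊥ → ∃ x ∈ I', x ≠ 0 := by
    intro I' h
    by_contra h'
    push Not at h'
    apply h
    rw [eq_bot_iff]
    intro x hx
    rw [h' x hx]
    exact zero_mem _
  -- `J * τ_γ I = 0`
  have key : ∀ (γ : L ≃ₐ[K] L) (j x : L ⊗[K] A), j ∈ J → x ∈ I → j * tau A γ x = 0 := by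
    intro γ
    by_contra hne
    push Not at hne
    obtain ⟨j, x, hj, hx, hjx⟩ := hne
    apply hcon γ
    have h1 : I ⊓ J.comap (tau A γ) = I := by
      refine (hI.le_iff.1 inf_le_left).resolve_left (fun hb => ?_)
      -- `j * τ x = τ (τ⁻¹ j * x)`
      have h2 : tau A γ (tau A γ⁻¹ j * x) = j * tau A γ x := by
        rw [map_mul, ← tau_mul, mul_inv_cancel, tau_one]
      have h3 : tau A γ⁻¹ j * x ∈ I ⊓ J.comap (tau A γ) := by
        have h4 : tau A γ⁻¹ j * x ∈ J.comap (tau A γ) := by
          rw [TwoSidedIdeal.mem_comap, h2]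
          exact J.mul_mem_right _ _ hj
        exact ⟨I.mul_mem_left _ _ hx, h4⟩
      rw [hb] at h3
      rw [TwoSidedIdeal.mem_bot] at h3
      rw [h3, map_zero] at h2
      exact hjx h2.symm
    have h2 : ∀ y ∈ I, tau A γ y ∈ J := by
      intro y hy
      rw [← h1] at hy
      exact hy.2
    have h3 : J ⊓ I.comap (tau A γ⁻¹) = J := by
      refine (hJ.le_iff.1 inf_le_left).resolve_left (fun hb => ?_)
      obtain ⟨y, hy, hy0⟩ := hbot I hI.1
      have h4 : tau A γ y ∈ J ⊓ I.comap (tau A γ⁻¹) := by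
        have h5 : tau A γ y ∈ I.comap (tau A γ⁻¹) := by
          rw [TwoSidedIdeal.mem_comap, ← tau_mul, inv_mul_cancel, tau_one]
          exact hy
        exact ⟨h2 y hy, h5⟩
      rw [hb, TwoSidedIdeal.mem_bot] at h4
      apply hy0
      rw [← tau_one (K := K) y, ← inv_mul_cancel γ, tau_mul, h4, map_zero]
    ext y
    constructor
    · intro hy
      have hy' : y ∈ J := hy
      rw [← h3] at hy'
      refine ⟨tau A γ⁻¹ y, hy'.2, ?_⟩
      rw [← tau_mul, mul_inv_cancel, tau_one]
    · rintro ⟨z, hz, rfl⟩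
      exact h2 z hz
  -- the annihilator
  let T : Submodule L (L ⊗[K] A) :=
    { carrier := {x | ∀ (γ : L ≃ₐ[K] L), ∀ j ∈ J, j * tau A γ x = 0}
      add_mem' := fun {x y} hx hy γ j hj => by rw [map_add, mul_add, hx γ j hj, hy γ j hj, add_zero]
      zero_mem' := fun γ j _ => by rw [map_zero, mul_zero]
      smul_mem' := fun l x hx γ j hj => by
        rw [tau_smul, mul_smul_comm, hx γ j hj, smul_zero] }
  have hT : T ≠ ⊥ := by
    obtain ⟨y, hy, hy0⟩ := hbot I hI.1
    intro h
    have : y ∈ T := fun γ j hj => key γ j y hj hy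
    rw [h, Submodule.mem_bot] at this
    exact hy0 this
  obtain ⟨a, ha, haT⟩ := exists_one_tmul T hT (fun γ x hx δ j hj => by
    rw [← tau_mul]
    exact hx _ j hj)
  -- the ideal of `A`
  have h1 : (1 : A) ∈ TwoSidedIdeal.span {a} := by
    have h2 : TwoSidedIdeal.span {a} = ⊤ := by
      refine (eq_bot_or_eq_top _).resolve_left (fun h => ha ?_)
      have : a ∈ TwoSidedIdeal.span {a} := TwoSidedIdeal.subset_span rfl
      rw [h, TwoSidedIdeal.mem_bot] at this
      exact this
    rw [h2]
    trivial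
  have h2 : ∀ c ∈ TwoSidedIdeal.span {a}, (1 : L) ⊗ₜ[K] c ∈ T := by
    intro c hc
    induction hc using TwoSidedIdeal.span_induction with
    | mem x hx =>
      rw [Set.mem_singleton_iff.1 hx]
      exact haT
    | zero => rw [TensorProduct.tmul_zero]; exact T.zero_mem
    | add x y _ _ hx hy => rw [TensorProduct.tmul_add]; exact T.add_mem hx hy
    | neg x _ hx => rw [TensorProduct.tmul_neg]; exact T.neg_mem hx
    | left_absorb r x _ hx =>
      intro γ j hj
      have h3 : (1 : L) ⊗ₜ[K] (r * x) = ((1 : L) ⊗ₜ[K] r) * ((1 : L) ⊗ₜ[K] x) := by simp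
      rw [h3, map_mul, ← mul_assoc]
      exact hx γ _ (J.mul_mem_right _ _ hj)
    | right_absorb r x _ hx =>
      intro γ j hj
      have h3 : (1 : L) ⊗ₜ[K] (x * r) = ((1 : L) ⊗ₜ[K] x) * ((1 : L) ⊗ₜ[K] r) := by simp
      rw [h3, map_mul, ← mul_assoc, hx γ j hj, zero_mul]
  obtain ⟨y, hy, hy0⟩ := hbot J hJ.1
  apply hy0
  have h3 := h2 1 h1 1 y hy
  rwa [tau_one, ← Algebra.TensorProduct.one_def, mul_one] at h3

end K443.GalIdeal
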